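import Groth.Prelude.Def_NonAbH1
import Mathlib.CategoryTheory.Sites.Point.Conservative
import Mathlib.Algebra.Category.Grp.FilteredColimits
import Mathlib.CategoryTheory.Category.ULift

/-!
The Godement sheaf of a sheaf of groups for a conservative family of points: it contains the sheaf and
all its torsors are trivial.
-/

set_option autoImplicit false
set_option backward.isDefEq.respectTransparency false
set_option backward.isDefEq.respectTransparency.types false

universe u

open CategoryTheory Opposite Limits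

namespace Groth.Agent.Flasque.GodementGrp

noncomputable section

variable {C : Type (u + 1)} [Category.{u} C] {J : GrothendieckTopology C}

/-- A torsor with a section is trivial. -/
theorem isTrivial_of_hasSection {C' : Type (u + 1)} [Category.{u} C'] {J' : GrothendieckTopology C'}
    [J'.HasSheafCompose (forget GrpCat.{u + 1})] {G : Sheaf J' GrpCat.{u + 1}} (P : NonAbH1.GSheaf G)
    (hP : P.IsPseudoTorsor) (hs : P.HasSection) : P.IsTrivial := by
  obtain ⟨s, hs⟩ := hs
  let app : ∀ V : C'ᵒᵖ, (NonAbH1.GSheaf.uSh G).obj.obj V → P.P.obj.obj V :=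
    fun V g => P.smul (NonAbH1.GSheaf.toGrp g) (s V)
  let η : (NonAbH1.GSheaf.uSh G).obj ⟶ P.P.obj :=
    { app := fun V => TypeCat.ofHom (app V)
      naturality := fun V W f => by
        ext g
        show app W (NonAbH1.GSheaf.ofGrp (G.obj.map f (NonAbH1.GSheaf.toGrp g))) = P.P.obj.map f (app V g)
        rw [P.map_smul, hs f] }
  let ψ : NonAbH1.GSheaf.trivial G ⟶ P := ⟨ObjectProperty.homMk η, fun {V} g p => P.mul_smul _ _ _⟩
  have hb : ∀ V, Function.Bijective (η.app V) := fun V => ⟨fun a b h => (hP V (s V) (app V b)).unique h rfl,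
    fun q => (hP V (s V) q).exists⟩
  haveI : ∀ V, IsIso (η.app V) := fun V => (isIso_iff_bijective _).2 (hb V)
  haveI : IsIso η := NatIso.isIso_of_isIso_app η
  haveI : IsIso ((sheafToPresheaf J' (Type (u + 1))).map ψ.hom) := ‹IsIso η›
  haveI : IsIso ψ.hom := isIso_of_fully_faithful (sheafToPresheaf J' (Type (u + 1))) ψ.hom
  refine ⟨⟨ψ, ⟨inv ψ.hom, fun {V} g p => ?_⟩, ?_, ?_⟩⟩
  · apply (hb V).injective
    have e : ∀ q, η.app V ((inv ψ.hom).hom.app V q) = q := fun q =>
      congrArg (fun t : P.P ⟶ P.P => t.hom.app V q) (IsIso.inv_hom_id ψ.hom)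
    rw [e]
    refine Eq.trans ?_ (P.mul_smul g _ (s V)).symm
    exact congrArg (P.smul g) (e p).symm
  · exact NonAbH1.GSheaf.hom_ext (IsIso.hom_inv_id ψ.hom)
  · exact NonAbH1.GSheaf.hom_ext (IsIso.inv_hom_id ψ.hom)

variable {ι : Type u} (Φ : ι → GrothendieckTopology.Point.{u} J) (F : Sheaf J GrpCat.{u + 1})

/-- A small model of the index category of the stalk. -/
abbrev Idx (x : ι) : Type (u + 1) := AsSmall.{u + 1} ((Φ x).fiber.Elementsᵒᵖ)

instance (x : ι) : IsFiltered (Idx Φ x) := IsFiltered.of_equivalence AsSmall.equiv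

/-- The diagram computing the stalk. -/
def diag (x : ι) : Idx Φ x ⥤ GrpCat.{u + 1} :=
  AsSmall.down ⋙ (CategoryOfElements.π (Φ x).fiber).op ⋙ F.obj

/-- The stalk cocone. -/
def stalkCocone (x : ι) : Cocone (diag Φ F x) := GrpCat.FilteredColimits.colimitCocone.{u + 1, u + 1} (diag Φ F x)

/-- The stalk. -/
def M (x : ι) : GrpCat.{u + 1} := (stalkCocone Φ F x).pt

/-- The germ map. -/
def germ (x : ι) {V : C} (y : (Φ x).fiber.obj V) : F.obj.obj (op V) ⟶ M Φ F x :=
  (stalkCocone Φ F x).ι.app (ULift.up (op (Functor.elementsMk (Φ x).fiber V y)))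

theorem germ_w (x : ι) {V W : C} (f : W ⟶ V) (y : (Φ x).fiber.obj W) (s : F.obj.obj (op V)) :
    germ Φ F x y (F.obj.map f.op s) = germ Φ F x ((Φ x).fiber.map f y) s :=
  ConcreteCategory.congr_hom ((stalkCocone Φ F x).w
    (AsSmall.up.map (CategoryOfElements.homMk (Functor.elementsMk (Φ x).fiber W y)
      (Functor.elementsMk (Φ x).fiber V ((Φ x).fiber.map f y)) f rfl).op)) s

theorem germ_eq (x : ι) {V : C} (y : (Φ x).fiber.obj V) {s t : F.obj.obj (op V)}
    (h : germ Φ F x y s = germ Φ F x y t) :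
    ∃ (W : C) (f : W ⟶ V) (z : (Φ x).fiber.obj W), (Φ x).fiber.map f z = y ∧ F.obj.map f.op s = F.obj.map f.op t := by
  let j₀ : Idx Φ x := ULift.up (op (Functor.elementsMk (Φ x).fiber V y))
  have h' : (stalkCocone Φ F x).ι.app j₀ s = (stalkCocone Φ F x).ι.app j₀ t := h
  obtain ⟨⟨j⟩, f, g, e⟩ := Concrete.isColimit_exists_of_rep_eq (diag Φ F x)
    (GrpCat.FilteredColimits.colimitCoconeIsColimit.{u + 1, u + 1} (diag Φ F x)) _ _ h'
  refine ⟨_, ((AsSmall.down.map (f ≫ IsFiltered.coeqHom f g)).unop).1, _,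
    ((AsSmall.down.map (f ≫ IsFiltered.coeqHom f g)).unop).2, ?_⟩
  have e' := congrArg (fun z => (diag Φ F x).map (IsFiltered.coeqHom f g) z) e
  simp only [← ConcreteCategory.comp_apply, ← Functor.map_comp] at e'
  rw [← IsFiltered.coeq_condition f g] at e'
  exact e'

/-- The Godement presheaf. -/
def godPre : Cᵒᵖ ⥤ GrpCat.{u + 1} where
  obj V := GrpCat.of (∀ x, (Φ x).fiber.obj V.unop → M Φ F x)
  map {V W} f := GrpCat.ofHom
    { toFun := fun s x y => s x ((Φ x).fiber.map f.unop y)
      map_one' := rfl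
      map_mul' := fun _ _ => rfl }
  map_id V := by
    ext s x y
    show s x ((Φ x).fiber.map (𝟙 V.unop) y) = s x y
    simp
  map_comp f g := by
    ext s x y
    show s x ((Φ x).fiber.map (g.unop ≫ f.unop) y) = s x ((Φ x).fiber.map f.unop ((Φ x).fiber.map g.unop y))
    simp

theorem isSheaf_godPre : Presheaf.IsSheaf J (godPre Φ F) := by
  rw [Presheaf.isSheaf_iff_isSheaf_forget _ _ (forget GrpCat.{u + 1}), isSheaf_iff_isSheaf_of_type]
  intro V R hR s hs
  choose W f hf z hz using fun (x : ι) (y : (Φ x).fiber.obj V) => (Φ x).jointly_surjective R hR y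
  have key : ∀ (x : ι) {W : C} (f : W ⟶ V) (hf : R f) {W' : C} (f' : W' ⟶ V) (hf' : R f')
      (z : (Φ x).fiber.obj W) (z' : (Φ x).fiber.obj W'), (Φ x).fiber.map f z = (Φ x).fiber.map f' z' →
      s f hf x z = s f' hf' x z' := by
    intro x W f hf W' f' hf' z z' e
    let a := Functor.elementsMk (Φ x).fiber W z
    let b := Functor.elementsMk (Φ x).fiber W' z'
    let v := Functor.elementsMk (Φ x).fiber V ((Φ x).fiber.map f z)
    let c := IsCofiltered.min a b
    let p : c ⟶ v := IsCofiltered.minToLeft a b ≫ CategoryOfElements.homMk a v f rfl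
    let q : c ⟶ v := IsCofiltered.minToRight a b ≫ CategoryOfElements.homMk b v f' e.symm
    let d := IsCofiltered.eqHom p q
    have hd : d ≫ p = d ≫ q := IsCofiltered.eq_condition p q
    have h1 := hs (d.1 ≫ (IsCofiltered.minToLeft a b).1) (d.1 ≫ (IsCofiltered.minToRight a b).1) hf hf'
      (by
        rw [Category.assoc, Category.assoc]
        exact congrArg Subtype.val hd)
    have h2 := congrFun (congrFun h1 x) (IsCofiltered.eq p q).2
    exact ((congrArg (s f hf x) (d ≫ IsCofiltered.minToLeft a b).2).symm.trans h2).trans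
      (congrArg (s f' hf' x) (d ≫ IsCofiltered.minToRight a b).2)
  refine ⟨fun x y => s (f x y) (hf x y) x (z x y), fun W' g hg => ?_, fun t ht => ?_⟩
  · funext x y
    exact key x _ _ g hg _ _ (hz x _)
  · funext x y
    have h := congrFun (congrFun (ht (f x y) (hf x y)) x) (z x y)
    exact (congrArg (t x) (hz x y)).symm.trans h

/-- The Godement sheaf. -/
def god : Sheaf J GrpCat.{u + 1} := ⟨godPre Φ F, isSheaf_godPre Φ F⟩

/-- The canonical map into the Godement sheaf. -/
def toGod : F ⟶ god Φ F :=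
  ObjectProperty.homMk
    { app := fun V => GrpCat.ofHom (Y := ∀ x, (Φ x).fiber.obj V.unop → M Φ F x)
        { toFun := fun s x y => germ Φ F x y s
          map_one' := by funext x y; exact map_one _
          map_mul' := fun a b => by funext x y; exact map_mul (germ Φ F x y).hom a b }
      naturality := fun V W f => by
        ext s; funext x y
        exact germ_w Φ F x f.unop y s }

variable {Φ}

theorem toGod_injective (hΦ : ∀ (X : C) (κ : Type u) (U : κ → C) (f : ∀ i, U i ⟶ X),
      (∀ (x : ι) (y : (Φ x).fiber.obj X), ∃ (i : κ) (z : (Φ x).fiber.obj (U i)), (Φ x).fiber.map (f i) z = y) →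
      Sieve.ofArrows U f ∈ J X) (V : Cᵒᵖ) :
    Function.Injective ((toGod Φ F).hom.app V) := by
  intro s t h
  choose W f z hz e using fun (k : Σ x, (Φ x).fiber.obj V.unop) =>
    germ_eq Φ F k.1 k.2 (congrFun (congrFun h k.1) k.2)
  have hR : Sieve.ofArrows _ f ∈ J V.unop := hΦ _ _ _ f fun x y => ⟨⟨x, y⟩, z ⟨x, y⟩, hz ⟨x, y⟩⟩
  have hsep := ((isSheaf_iff_isSheaf_of_type J _).1
    ((Presheaf.isSheaf_iff_isSheaf_forget _ F.obj (forget GrpCat.{u + 1})).1 F.property)).isSeparated _ hR
  refine hsep.ext fun W' g hg => ?_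
  obtain ⟨_, a, _, ⟨k⟩, rfl⟩ := hg
  show F.obj.map (a ≫ f k).op s = F.obj.map (a ≫ f k).op t
  rw [op_comp, Functor.map_comp, ConcreteCategory.comp_apply, ConcreteCategory.comp_apply, e k]

/-- Torsors under the restrictions of the Godement sheaf are trivial. -/
theorem isTrivial_torsor (U : C) [(J.over U).HasSheafCompose (forget GrpCat.{u + 1})]
    (P : NonAbH1.Torsor ((god Φ F).over U)) : P.IsTrivial := by
  obtain ⟨hP, hne⟩ := P.isTorsor
  obtain ⟨R, hR, hRne⟩ := hne (Over.mk (𝟙 U))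
  rw [GrothendieckTopology.mem_over_iff] at hR
  choose W₀ f₀ hf₀ w₀ hw₀ using fun (x : ι) (u : (Φ x).fiber.obj U) => (Φ x).jointly_surjective _ hR u
  have hW : ∀ x u, Nonempty (P.P.obj.obj (op (Over.mk (f₀ x u)))) := fun x u => by
    obtain ⟨Z, g, h, hg, e⟩ := hf₀ x u
    obtain ⟨p⟩ := hRne g hg
    exact ⟨P.P.obj.map (Over.homMk (U := Over.mk (f₀ x u)) h (by
      show h ≫ Z.hom = f₀ x u
      rw [e]
      exact congrArg (h ≫ ·) ((Over.w g).symm.trans (Category.comp_id _)))).op p⟩
  let q₀ : ∀ x u, P.P.obj.obj (op (Over.mk (f₀ x u))) := fun x u => (hW x u).some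
  -- the value of a group section at a point
  let ev : ∀ {V : Over U} (_ : ((god Φ F).over U).obj.obj (op V)) (x : ι) (_ : (Φ x).fiber.obj V.left), M Φ F x :=
    fun g x y => g x y
  -- refinements
  have hrefine : ∀ (V : Over U) (x : ι) (y : (Φ x).fiber.obj V.left), ∃ (Z : Over U) (a : Z ⟶ V)
      (b : Z ⟶ Over.mk (f₀ x ((Φ x).fiber.map V.hom y))) (z : (Φ x).fiber.obj Z.left),
      (Φ x).fiber.map a.left z = y ∧ (Φ x).fiber.map b.left z = w₀ x ((Φ x).fiber.map V.hom y) := by
    intro V x y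
    let a := Functor.elementsMk (Φ x).fiber V.left y
    let b := Functor.elementsMk (Φ x).fiber _ (w₀ x ((Φ x).fiber.map V.hom y))
    let v := Functor.elementsMk (Φ x).fiber U ((Φ x).fiber.map V.hom y)
    let p : IsCofiltered.min a b ⟶ v := IsCofiltered.minToLeft a b ≫ CategoryOfElements.homMk a v V.hom rfl
    let q : IsCofiltered.min a b ⟶ v :=
      IsCofiltered.minToRight a b ≫ CategoryOfElements.homMk b v (f₀ x _) (hw₀ x _)
    let d := IsCofiltered.eqHom p q
    refine ⟨Over.mk (d ≫ p).1, Over.homMk (d ≫ IsCofiltered.minToLeft a b).1 (by simp [p]),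
      Over.homMk (d ≫ IsCofiltered.minToRight a b).1 ?_, (IsCofiltered.eq p q).2,
      (d ≫ IsCofiltered.minToLeft a b).2, (d ≫ IsCofiltered.minToRight a b).2⟩
    rw [IsCofiltered.eq_condition p q]
    simp [q]; rfl
  choose Z za zb z hza hzb using hrefine
  choose gd hgd _ using fun (V : Over U) (p : P.P.obj.obj (op V)) (x : ι) (y : (Φ x).fiber.obj V.left) =>
    hP (op (Z V x y)) (P.P.obj.map (zb V x y).op (q₀ x _)) (P.P.obj.map (za V x y).op p)
  let δ : ∀ (V : Over U) (_ : P.P.obj.obj (op V)) (x : ι) (_ : (Φ x).fiber.obj V.left), M Φ F x :=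
    fun V p x y => ev (gd V p x y) x (z V x y)
  -- independence of the refinement
  have hδ : ∀ (V : Over U) (p : P.P.obj.obj (op V)) (x : ι) (y : (Φ x).fiber.obj V.left) (Z' : Over U)
      (a : Z' ⟶ V) (u : (Φ x).fiber.obj U) (b : Z' ⟶ Over.mk (f₀ x u)) (z' : (Φ x).fiber.obj Z'.left)
      (g : ((god Φ F).over U).obj.obj (op Z')),
      (Φ x).fiber.map a.left z' = y → (Φ x).fiber.map b.left z' = w₀ x u →
      P.smul g (P.P.obj.map b.op (q₀ x u)) = P.P.obj.map a.op p → δ V p x y = ev g x z' := by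
    intro V p x y Z' a u b z' g ha hb hg
    obtain rfl : u = (Φ x).fiber.map V.hom y := by
      have h1 : (Φ x).fiber.map (b.left ≫ f₀ x u) z' = (Φ x).fiber.map (a.left ≫ V.hom) z' :=
        congrArg (fun t => (Φ x).fiber.map t z') ((Over.w b).trans (Over.w a).symm)
      rw [Functor.map_comp, Functor.map_comp, ConcreteCategory.comp_apply, ConcreteCategory.comp_apply, hb, ha] at h1
      exact (hw₀ x u).symm.trans h1
    let e₁ := Functor.elementsMk (Φ x).fiber (Z V x y).left (z V x y)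
    let e₂ := Functor.elementsMk (Φ x).fiber Z'.left z'
    let v := Functor.elementsMk (Φ x).fiber V.left y
    let w := Functor.elementsMk (Φ x).fiber _ (w₀ x ((Φ x).fiber.map V.hom y))
    let c := IsCofiltered.min e₁ e₂
    let p₁ : c ⟶ v := IsCofiltered.minToLeft e₁ e₂ ≫ CategoryOfElements.homMk e₁ v (za V x y).left (hza V x y)
    let p₂ : c ⟶ v := IsCofiltered.minToRight e₁ e₂ ≫ CategoryOfElements.homMk e₂ v a.left ha
    let d := IsCofiltered.eqHom p₁ p₂
    let q₁ : IsCofiltered.eq p₁ p₂ ⟶ w :=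
      (d ≫ IsCofiltered.minToLeft e₁ e₂) ≫ CategoryOfElements.homMk e₁ w (zb V x y).left (hzb V x y)
    let q₂ : IsCofiltered.eq p₁ p₂ ⟶ w :=
      (d ≫ IsCofiltered.minToRight e₁ e₂) ≫ CategoryOfElements.homMk e₂ w b.left hb
    let d' := IsCofiltered.eqHom q₁ q₂
    let k₁ := d' ≫ d ≫ IsCofiltered.minToLeft e₁ e₂
    let k₂ := d' ≫ d ≫ IsCofiltered.minToRight e₁ e₂
    have hv : k₁.1 ≫ (za V x y).left = k₂.1 ≫ a.left := by
      simpa [k₁, k₂, p₁, p₂] using congrArg (fun t => (d' ≫ t).1) (IsCofiltered.eq_condition p₁ p₂)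
    have hw : k₁.1 ≫ (zb V x y).left = k₂.1 ≫ b.left := by
      simpa [k₁, k₂, q₁, q₂] using congrArg Subtype.val (IsCofiltered.eq_condition q₁ q₂)
    let Z'' : Over U := Over.mk (k₁.1 ≫ (Z V x y).hom)
    let m₁ : Z'' ⟶ Z V x y := Over.homMk k₁.1 rfl
    let m₂ : Z'' ⟶ Z' := Over.homMk k₂.1 (by
      show k₂.1 ≫ Z'.hom = k₁.1 ≫ (Z V x y).hom
      rw [← Over.w a, ← Over.w (za V x y), reassoc_of% hv])
    have ea : m₁ ≫ za V x y = m₂ ≫ a := Over.OverMorphism.ext hv
    have eb : m₁ ≫ zb V x y = m₂ ≫ b := Over.OverMorphism.ext hw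
    have e : ((god Φ F).over U).obj.map m₁.op (gd V p x y) = ((god Φ F).over U).obj.map m₂.op g := by
      refine (hP (op Z'') (P.P.obj.map (m₁ ≫ zb V x y).op (q₀ x _)) (P.P.obj.map (m₁ ≫ za V x y).op p)).unique ?_ ?_
      · rw [op_comp, op_comp, Functor.map_comp, Functor.map_comp, ConcreteCategory.comp_apply,
          ConcreteCategory.comp_apply, ← P.map_smul, hgd]
      · rw [ea, eb, op_comp, op_comp, Functor.map_comp, Functor.map_comp, ConcreteCategory.comp_apply,
          ConcreteCategory.comp_apply, ← P.map_smul, hg]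
    have h2 := congrArg (fun t => ev t x (IsCofiltered.eq q₁ q₂).2) e
    change ev (gd V p x y) x ((Φ x).fiber.map k₁.1 _) = ev g x ((Φ x).fiber.map k₂.1 _) at h2
    rwa [k₁.2, k₂.2] at h2
  -- equivariance and naturality of `δ`
  have hsmul : ∀ (V : Over U) (g : ((god Φ F).over U).obj.obj (op V)) (p : P.P.obj.obj (op V)) (x : ι)
      (y : (Φ x).fiber.obj V.left), δ V (P.smul g p) x y = ev g x y * δ V p x y := by
    intro V g p x y
    refine (hδ V _ x y (Z V x y) (za V x y) _ (zb V x y) (z V x y)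
      (((god Φ F).over U).obj.map (za V x y).op g * gd V p x y) (hza V x y) (hzb V x y)
      (by rw [P.mul_smul, hgd, P.map_smul])).trans ?_
    show g x ((Φ x).fiber.map (za V x y).left (z V x y)) * _ = _
    rw [hza]
  have hnat : ∀ (V' V : Over U) (h : V' ⟶ V) (p : P.P.obj.obj (op V)) (x : ι)
      (y : (Φ x).fiber.obj V'.left), δ V' (P.P.obj.map h.op p) x y = δ V p x ((Φ x).fiber.map h.left y) := by
    intro V' V h p x y
    refine (hδ V p x _ (Z V' x y) (za V' x y ≫ h) _ (zb V' x y) (z V' x y) _ ?_ (hzb V' x y) ?_).symm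
    · rw [Over.comp_left, Functor.map_comp, ConcreteCategory.comp_apply, hza]
    · rw [hgd, op_comp, Functor.map_comp, ConcreteCategory.comp_apply]
  have huniq : ∀ (V : Over U) (p p' : P.P.obj.obj (op V)), δ V p = δ V p' → p = p' := by
    intro V p p' h
    obtain ⟨g, hg, -⟩ := hP (op V) p p'
    have : g = 1 := by
      funext x y
      have h' := (congrFun (congrFun h x) y).symm
      rw [← hg, hsmul] at h'
      exact mul_eq_right.1 h'
    rw [← hg, this, P.one_smul]
  have hex : ∀ V : Over U, ∃ p : P.P.obj.obj (op V), δ V p = fun _ _ => 1 := by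
    intro V
    obtain ⟨S, hS, hSne⟩ := hne V
    let s : Presieve.FamilyOfElements P.P.obj S.arrows := fun W g hg =>
      P.smul (fun x y => (δ W (hSne g hg).some x y)⁻¹) (hSne g hg).some
    have hs1 : ∀ {W : Over U} (g : W ⟶ V) (hg : S g), δ W (s g hg) = fun _ _ => 1 := fun g hg => by
      funext x y
      rw [hsmul]
      exact inv_mul_cancel _
    have hcompat : s.Compatible := fun W₁ W₂ W g₁ g₂ f₁ f₂ hf₁ hf₂ _ => huniq _ _ _ (by
      funext x y
      rw [hnat, hnat, hs1 f₁ hf₁, hs1 f₂ hf₂])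
    have hsh := (isSheaf_iff_isSheaf_of_type _ _).1 P.P.property S hS
    refine ⟨hsh.amalgamate s hcompat, ?_⟩
    funext x y
    obtain ⟨W, g, ⟨Z', g', h', hg', rfl⟩, w, rfl⟩ :=
      (Φ x).jointly_surjective _ ((GrothendieckTopology.mem_over_iff _ _).1 hS) y
    rw [Functor.map_comp, ConcreteCategory.comp_apply]
    show δ V _ x ((Φ x).fiber.map g'.left _) = 1
    rw [← hnat Z' V g' _ x _, hsh.valid_glue hcompat g' hg', hs1 g' hg']
  choose s hs using hex
  refine isTrivial_of_hasSection P.toGSheaf hP ⟨fun V => s V.unop, fun {V W} f => ?_⟩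
  refine huniq W.unop _ _ ?_
  funext x y
  rw [show f = f.unop.op from rfl, hnat, hs, hs]

end

end Groth.Agent.Flasque.GodementGrp
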